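import Cfsg.Agent.H111.GLExt.Lba

/-!
# S4536 (R6b): restriction of scalars and translation by a `p`-element generating the extension (helper111)

* `exists_stable` : the subspaces over `F` stable under `z u` are the subspaces over `E` stable under `u`;
* `Cmp.mul` : the comparison of families is compatible with the products;
* `kap_ext` : the comparison of the Möbius inversions;
* `ev_ext` : the theorem.
-/

set_option autoImplicit false

open Polynomial
open Cfsg.Agent.H614.GLn
open Cfsg.Agent.H139.Cusp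

namespace Cfsg.Agent.H111.GLExt

universe u v w

/-! ### stable subspaces -/

section stab

variable {F : Type u} [Field F] {E : Type u} [Field E] [Algebra F E]
variable {V : Type v} [AddCommGroup V] [Module F V] [Module E V] [IsScalarTower F E V]

/-- `z` is a `p`-element generating `E` over `F` -/
structure Ext (F : Type u) [Field F] {E : Type u} [Field E] [Algebra F E] (p : ℕ) (z : E) : Prop where
  ne : z ≠ 0
  pow : ∃ j, z ^ p ^ j = 1
  gen : Algebra.adjoin F ({z} : Set E) = ⊤

theorem exists_exp {p : ℕ} {z : E} (h : Ext F p z) {u : V →ₗ[E] V} {k : ℕ} (hk : k.Coprime p) (hu : u ^ k = 1) :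
    ∃ m : ℕ, ∀ v : V, (((z • u).restrictScalars F : V →ₗ[F] V) ^ m) v = z • v := by
  obtain ⟨j, hz⟩ := h.pow
  obtain ⟨m, h1, h2⟩ := Nat.chineseRemainder (Nat.Coprime.pow_left j hk.symm) 1 0
  refine ⟨m, fun v => ?_⟩
  rw [pow_restrictScalars, _root_.smul_pow, pow_eq_pow_of_modEq h1 hz, pow_one, pow_eq_pow_of_modEq h2 hu, pow_zero]
  rfl

theorem exists_stable {p : ℕ} {z : E} (h : Ext F p z) {u : V →ₗ[E] V} {k : ℕ} (hk : k.Coprime p) (hu : u ^ k = 1)
    {W : Submodule F V} (hW : W ≤ W.comap ((z • u).restrictScalars F)) :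
    ∃ W' : Submodule E V, W' ≤ W'.comap u ∧ W'.restrictScalars F = W := by
  obtain ⟨m, hm⟩ := exists_exp h hk hu
  have h1 : ∀ (n : ℕ), ∀ v ∈ W, (((z • u).restrictScalars F : V →ₗ[F] V) ^ n) v ∈ W := by
    intro n
    induction n with
    | zero => intro v hv; rw [pow_zero]; exact hv
    | succ n ih => intro v hv; rw [pow_succ', Module.End.mul_apply]; exact hW (ih v hv)
  have h2 : ∀ v ∈ W, z • v ∈ W := fun v hv => by rw [← hm]; exact h1 m v hv
  have h3 : ∀ (e : E), ∀ v ∈ W, e • v ∈ W := by
    intro e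
    have he : e ∈ Algebra.adjoin F ({z} : Set E) := by rw [h.gen]; exact Algebra.mem_top
    induction he using Algebra.adjoin_induction with
    | mem x hx => rw [Set.mem_singleton_iff] at hx; rw [hx]; exact h2
    | algebraMap r => intro v hv; rw [algebraMap_smul]; exact W.smul_mem r hv
    | add x y _ _ hx hy => intro v hv; rw [add_smul]; exact W.add_mem (hx v hv) (hy v hv)
    | mul x y _ _ hx hy => intro v hv; rw [mul_smul]; exact hx _ (hy v hv)
  refine ⟨{ W with smul_mem' := fun e v hv => h3 e v hv }, ?_, ?_⟩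
  · intro v hv
    have h4 : u v = z⁻¹ • ((z • u).restrictScalars F v) := by
      show u v = z⁻¹ • (z • u v)
      rw [smul_smul, inv_mul_cancel₀ h.ne, one_smul]
    show u v ∈ W
    rw [h4]
    exact h3 _ _ (hW hv)
  · exact SetLike.coe_injective rfl

theorem stable_iff {p : ℕ} {z : E} (h : Ext F p z) {u : V →ₗ[E] V} (W : Submodule E V) :
    W.restrictScalars F ≤ (W.restrictScalars F).comap ((z • u).restrictScalars F) ↔ W ≤ W.comap u := by
  refine ⟨fun h1 v hv => ?_, stable_of⟩
  have h4 : u v = z⁻¹ • ((z • u).restrictScalars F v) := by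
    show u v = z⁻¹ • (z • u v)
    rw [smul_smul, inv_mul_cancel₀ h.ne, one_smul]
  show u v ∈ W
  rw [h4]
  exact W.smul_mem _ (h1 hv)

theorem restrict_pow' {u : V →ₗ[E] V} {W : Submodule E V} (h : W ≤ W.comap u) {k : ℕ} (hu : u ^ k = 1) :
    (u.restrict h : W →ₗ[E] W) ^ k = 1 := by
  have h1 : ∀ (n : ℕ) (x : W), (((u.restrict h : W →ₗ[E] W) ^ n) x : V) = (u ^ n) x := by
    intro n
    induction n with
    | zero => intro x; rfl
    | succ n ih =>
      intro x
      rw [pow_succ', pow_succ', Module.End.mul_apply, Module.End.mul_apply, ← ih]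
      rfl
  apply LinearMap.ext
  intro x
  apply Subtype.ext
  rw [h1, hu]
  rfl

theorem mapQ_pow' {u : V →ₗ[E] V} {W : Submodule E V} (h : W ≤ W.comap u) {k : ℕ} (hu : u ^ k = 1) :
    (W.mapQ W u h) ^ k = 1 := by
  have h1 : ∀ (n : ℕ) (x : V), ((W.mapQ W u h) ^ n) (W.mkQ x) = W.mkQ ((u ^ n) x) := by
    intro n
    induction n with
    | zero => intro x; rfl
    | succ n ih =>
      intro x
      rw [pow_succ', pow_succ', Module.End.mul_apply, Module.End.mul_apply, ih]
      rfl
  apply LinearMap.ext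
  intro x
  obtain ⟨v, rfl⟩ := W.mkQ_surjective x
  rw [h1, hu]
  rfl

end stab

/-! ### the comparison of families -/

section cmp

variable {F : Type u} [Field F] {E : Type u} [Field E] [Algebra F E]

/-- the values of `f` at `z u` are the values of `g` at `u`, for `u` of order prime to `p` -/
def Cmp (N p : ℕ) (z : E) (f : Fam F) (g : Fam E) : Prop :=
  ∀ (V : Type u) [AddCommGroup V] [Module F V] [Module E V] [IsScalarTower F E V] [Finite V],
    Module.finrank F V ≤ N → ∀ (u : V →ₗ[E] V) (k : ℕ), k.Coprime p → u ^ k = 1 →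
      f.fn V ((z • u).restrictScalars F) = g.fn V u

variable {N p : ℕ} {z : E}

theorem Cmp.add {f f' : Fam F} {g g' : Fam E} (h : Cmp N p z f g) (h' : Cmp N p z f' g') :
    Cmp N p z (f + f') (g + g') := by
  intro V _ _ _ _ _ hV u k hk hu
  show f.fn V _ + f'.fn V _ = g.fn V _ + g'.fn V _
  rw [h V hV u k hk hu, h' V hV u k hk hu]

theorem Cmp.smul (c : ℂ) {f : Fam F} {g : Fam E} (h : Cmp N p z f g) : Cmp N p z (c • f) (c • g) := by
  intro V _ _ _ _ _ hV u k hk hu
  show c * f.fn V _ = c * g.fn V _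
  rw [h V hV u k hk hu]

theorem Cmp.one : Cmp N p z (1 : Fam F) (1 : Fam E) := by
  intro V _ _ _ _ _ hV u k hk hu
  rfl

theorem Cmp.zero : Cmp N p z (0 : Fam F) (0 : Fam E) := by
  intro V _ _ _ _ _ hV u k hk hu
  rfl

/-- **the comparison is compatible with the products** -/
theorem Cmp.mul (hz : Ext F p z) {f f' : Fam F} {g g' : Fam E} (h : Cmp N p z f g) (h' : Cmp N p z f' g') :
    Cmp N p z (f * f') (g * g') := by
  intro V _ _ _ _ _ hV u k hk hu
  rw [Fam.mul_fn, Fam.mul_fn]
  have h1 : ∑ᶠ W : Submodule F V, f.term f' V ((z • u).restrictScalars F) W =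
      ∑ᶠ W : Submodule E V, f.term f' V ((z • u).restrictScalars F) (W.restrictScalars F) := by
    rw [← finsum_mem_univ, ← finsum_mem_range (Submodule.restrictScalars_injective F E V)]
    refine finsum_mem_inter_support_eq' _ _ _ ?_
    intro W hW
    refine ⟨fun _ => ?_, fun _ => Set.mem_univ _⟩
    have h2 : W ≤ W.comap ((z • u).restrictScalars F) := by
      by_contra h3
      exact hW (Fam.term_of_not h3)
    obtain ⟨W', -, hW'⟩ := exists_stable hz hk hu h2
    exact ⟨W', hW'⟩
  rw [h1]
  refine finsum_congr fun W => ?_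
  by_cases hW : W ≤ W.comap u
  · have h0 := stable_of (F := F) (z := z) hW
    have : Finite (V ⧸ W) := finite_quot W
    have : Finite (V ⧸ W.restrictScalars F) := finite_quot _
    rw [Fam.term_of h0, Fam.term_of hW, ← f.conj' (quoE F W) (quo_comm hW h0), ← f'.conj' (subE F W) (sub_comm hW h0)]
    congr 1
    · refine h (V ⧸ W) ?_ (W.mapQ W u hW) k hk (mapQ_pow' hW hu)
      rw [← (quoE F W).finrank_eq]
      exact (Submodule.finrank_quotient_le _).trans hV
    · refine h' W ?_ (u.restrict hW) k hk (restrict_pow' hW hu)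
      rw [← (subE F W).finrank_eq]
      exact (Submodule.finrank_le _).trans hV
  · rw [Fam.term_of_not hW, Fam.term_of_not fun h2 => hW ((stable_iff hz W).1 h2)]

end cmp

/-! ### the comparison of the Möbius inversions -/

section kap

attribute [local instance] fintypeHom fintypeSub finite_quot

variable {F : Type u} [Field F] [Finite F] {E : Type u} [Field E] [Finite E] [Algebra F E]
variable {K : Type w} [Field K] [Finite K] [Algebra F K] [Algebra E K] [IsScalarTower F E K] {θ : K →*₀ ℂ}

theorem kap_ext {V : Type u} [AddCommGroup V] [Module F V] [Module E V] [IsScalarTower F E V] [Finite V]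
    {p : ℕ} {z : E} (hz : Ext F p z) {a : ℕ} (ha : θ (algebraMap E K z) ^ a = 1)
    (hs : ∀ h : E[X], h.Monic → h.natDegree ≤ Module.finrank E V → (h.map (algebraMap E K)).Splits)
    {u : V →ₗ[E] V} {k : ℕ} (hk : k.Coprime p) (hu : u ^ k = 1) :
    kap (lba (F := F) θ a) ((z • u).restrictScalars F) ⊤ =
      ∑ i ∈ Finset.range (Module.finrank F E), kap (lba (F := E) θ (a * Nat.card F ^ i)) u ⊤ := by
  classical
  have key1 : kap (lba (F := F) θ a) ((z • u).restrictScalars F) ((⊤ : Submodule E V).restrictScalars F) =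
      kap (fun h => ∑ i ∈ Finset.range (Module.finrank F E), lba (F := E) θ (a * Nat.card F ^ i) h) u ⊤ := by
    refine kap_unique _ (g := u)
      (k := fun W => kap (lba (F := F) θ a) ((z • u).restrictScalars F) (W.restrictScalars F)) ?_ ?_ ⊤
    · intro W hW
      exact kap_of_not _ fun h => hW ((stable_iff hz W).1 h)
    · intro W hW
      have h0 := stable_of (F := F) (z := z) hW
      have c3 := charpoly_conj_eq (subE F W) (sub_comm hW h0)
      have h1 := lba_ext (F := F) (θ := θ) hz.ne ha (Module.finrank E W) W rfl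
        (fun h hm hd => hs h hm (hd.trans (Submodule.finrank_le W))) (u.restrict hW)
      rw [← h1, c3, ← kap_sum (lba (F := F) θ a) h0]
      refine Finset.sum_of_injOn (fun W' => W'.restrictScalars F)
        (Submodule.restrictScalars_injective F E V).injOn ?_ ?_ (fun _ _ => rfl)
      · intro W' hW'
        rw [Finset.mem_coe, Finset.mem_filter] at hW' ⊢
        exact ⟨Finset.mem_univ _, hW'.2⟩
      · intro W' hW' hW''
        by_contra h2
        have h3 : W' ≤ W'.comap ((z • u).restrictScalars F) := by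
          by_contra h4
          exact h2 (kap_of_not _ h4)
        obtain ⟨Y, -, hY⟩ := exists_stable hz hk hu h3
        apply hW''
        refine ⟨Y, ?_, hY⟩
        rw [Finset.mem_filter] at hW'
        rw [Finset.mem_coe, Finset.mem_filter]
        refine ⟨Finset.mem_univ _, ?_⟩
        rw [← hY] at hW'
        exact hW'.2
  have key2 : kap (fun h => ∑ i ∈ Finset.range (Module.finrank F E), lba (F := E) θ (a * Nat.card F ^ i) h) u ⊤ =
      ∑ i ∈ Finset.range (Module.finrank F E), kap (lba (F := E) θ (a * Nat.card F ^ i)) u ⊤ := by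
    symm
    refine kap_unique _ (g := u)
      (k := fun W => ∑ i ∈ Finset.range (Module.finrank F E), kap (lba (F := E) θ (a * Nat.card F ^ i)) u W) ?_ ?_ ⊤
    · intro W hW
      exact Finset.sum_eq_zero fun i _ => kap_of_not _ hW
    · intro W hW
      rw [Finset.sum_comm]
      exact Finset.sum_congr rfl fun i _ => kap_sum _ hW
  rw [← key2, ← key1]
  rfl

end kap

/-! ### the theorem -/

section main

open Cfsg.Agent.H577.GLB.Std Cfsg.Agent.H577.GLB.Real

variable {F : Type u} [Field F] {K : Type w} [Field K] [Algebra F K] {θ : K →*₀ ℂ} {N M : ℕ} [NeZero M]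
variable {E : Type u} [Field E] [Algebra F E] [Finite E] [Algebra E K] [IsScalarTower F E K]

theorem splits_irr (ctx : Ctx F θ N M) {g : E[X]} (hm : g.Monic) (hirr : Irreducible g)
    (hd : Module.finrank F E * g.natDegree ≤ N) : (g.map (algebraMap E K)).Splits := by
  have := ctx.finF
  have : Fact (Irreducible g) := ⟨hirr⟩
  have hfin : Module.Finite E (AdjoinRoot g) := (AdjoinRoot.powerBasis hirr.ne_zero).finite
  have hdim : Module.finrank E (AdjoinRoot g) = g.natDegree := by
    rw [(AdjoinRoot.powerBasis hirr.ne_zero).finrank, AdjoinRoot.powerBasis_dim]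
  have hfin' : Module.Finite F (AdjoinRoot g) := Module.Finite.trans E (AdjoinRoot g)
  have h1 : (minpoly F (AdjoinRoot.root g)).natDegree ≤ N := by
    refine (minpoly.natDegree_le _).trans ?_
    rw [← Module.finrank_mul_finrank F E (AdjoinRoot g), hdim]
    exact hd
  have h2 : minpoly E (AdjoinRoot.root g) = g := by
    rw [AdjoinRoot.minpoly_root hirr.ne_zero, hm.leadingCoeff, inv_one, C_1, mul_one]
  have h3 := minpoly.dvd_map_of_isScalarTower F E (AdjoinRoot.root g)
  rw [h2] at h3
  have h4 := Polynomial.map_dvd (algebraMap E K) h3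
  rw [Polynomial.map_map, ← IsScalarTower.algebraMap_eq F E K] at h4
  have hint : IsIntegral F (AdjoinRoot.root g) := IsIntegral.of_finite F _
  exact (ctx.spl _ (minpoly.monic hint) h1).of_dvd ((minpoly.monic hint).map _).ne_zero h4

theorem splits_ext (ctx : Ctx F θ N M) {n : ℕ} (hn : Module.finrank F E * n ≤ N) (d : ℕ) :
    ∀ h : E[X], h.Monic → h.natDegree ≤ n → h.natDegree = d → (h.map (algebraMap E K)).Splits := by
  induction d using Nat.strong_induction_on with
  | _ d ih =>
    intro h hm hd hd'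
    by_cases hu : IsUnit h
    · rw [hm.eq_one_of_isUnit hu, Polynomial.map_one]
      exact Splits.one
    obtain ⟨g, hgm, hirr, c, hc⟩ := exists_monic_irreducible_factor _ hu
    have hcm : c.Monic := hgm.of_mul_monic_left (by rw [← hc]; exact hm)
    have h1 : h.natDegree = g.natDegree + c.natDegree := by rw [hc, hgm.natDegree_mul hcm]
    have h2 : 0 < g.natDegree := hirr.natDegree_pos
    rw [hc, Polynomial.map_mul]
    refine Splits.mul (splits_irr ctx hgm hirr ?_) (ih c.natDegree (by omega) c hcm (by omega) rfl)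
    exact (Nat.mul_le_mul_left _ (by omega)).trans hn

/-- the standing hypotheses for the extension field -/
theorem ctx_ext (ctx : Ctx F θ N M) {n : ℕ} (hn : Module.finrank F E * n ≤ N) : Ctx E θ n M := by
  have := ctx.finF
  have := ctx.finK
  have hE : Nat.card E = Nat.card F ^ Module.finrank F E := Module.natCard_eq_pow_finrank
  refine ⟨inferInstance, inferInstance, ctx.inj, fun h hm hd => splits_ext ctx hn _ h hm hd rfl, ctx.card, ?_⟩
  intro d hd hdn
  rw [hE, ← pow_mul]
  exact ctx.dvd _ (Nat.mul_pos Module.finrank_pos hd) ((Nat.mul_le_mul_left _ hdn).trans hn)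

omit [NeZero M] [Algebra F K] [IsScalarTower F E K] in
theorem theta_pow [NeZero M] [Finite F] {p : ℕ} {z : E} (hz : Ext F p z) {k : ℕ} (hd : Module.finrank F E ∣ k)
    {c : ZMod M} (hT : TorZ (Nat.card F : ℤ) M k c) (hc : PReg M p c) :
    θ (algebraMap E K z) ^ expo (Nat.card F) M k c = 1 := by
  have hM : 0 < M := Nat.pos_of_ne_zero (NeZero.ne M)
  have hE : Nat.card E = Nat.card F ^ Module.finrank F E := Module.natCard_eq_pow_finrank
  have hq : 1 ≤ Nat.card F := Nat.card_pos
  have h1 := H623.GLn.expo_mul hq hT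
  set a := expo (Nat.card F) M k c with ha
  set o := addOrderOf c with ho
  have h2 : M ∣ o * c.val := by
    rw [← ZMod.natCast_eq_zero_iff]
    push_cast
    rw [ZMod.natCast_zmod_val, ← nsmul_eq_mul]
    exact addOrderOf_nsmul_eq_zero c
  obtain ⟨t, ht⟩ := h2
  have h3 : o * a = t * (Nat.card F ^ k - 1) := by
    apply Nat.eq_of_mul_eq_mul_right hM
    rw [mul_assoc, h1, ← mul_assoc, ht]
    ring
  have h4 : z ^ (Nat.card F ^ k - 1) = 1 := by
    obtain ⟨e, rfl⟩ := hd
    rw [pow_mul, ← hE]
    have h5 : Nat.card E - 1 ∣ Nat.card E ^ e - 1 := by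
      have := Nat.sub_dvd_pow_sub_pow (Nat.card E) 1 e
      rwa [one_pow] at this
    obtain ⟨x, hx⟩ := h5
    have h6 : z ^ (Nat.card E - 1) = 1 := by
      have h7 : (Units.mk0 z hz.ne) ^ Nat.card Eˣ = 1 := pow_card_eq_one'
      rw [Nat.card_units] at h7
      exact congrArg Units.val h7
    rw [hx, pow_mul, h6, one_pow]
  have h5 : (z ^ a) ^ o = 1 := by
    rw [← pow_mul, mul_comm, h3, mul_comm, pow_mul, h4, one_pow]
  obtain ⟨j, hj⟩ := hz.pow
  have h6 : (z ^ a) ^ (p ^ j) = 1 := by rw [← pow_mul, mul_comm, pow_mul, hj, one_pow]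
  have h7 : z ^ a = 1 := by
    rw [← orderOf_eq_one_iff]
    exact Nat.eq_one_of_dvd_coprimes (Nat.Coprime.pow_right j hc) (orderOf_dvd_of_pow_eq_one h5)
      (orderOf_dvd_of_pow_eq_one h6)
  rw [← map_pow, ← map_pow, h7, map_one, map_one]

theorem piA_X' (v : Var M) : piA (F := F) θ M (MvPolynomial.X v) = Rc θ M v.1 v.2 := by
  rw [piA, MvPolynomial.aeval_X]

theorem piA_rv_fn_zero {k : ℕ} (Q : ℤ) {c : ZMod M} {V : Type u} [AddCommGroup V] [Module F V] [Finite V]
    (T : V →ₗ[F] V) (h : Module.finrank F V ≠ k) : (piA (F := F) θ M (rv Q M k c)).fn V T = 0 := by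
  rw [rv]
  split_ifs
  · rw [piA_X', Rc, Rf, comp_fn, if_neg h]
  · rw [map_zero]
    rfl

theorem cmp_gen (ctx : Ctx F θ N M) {p : ℕ} {z : E} (hz : Ext F p z) (k : ℕ) (c : ZMod M) (hc : PReg M p c) :
    Cmp N p z (piA (F := F) θ M (rv (Nat.card F : ℤ) M k c))
      (piA (F := E) θ M (PhiF (Nat.card F : ℤ) M (Module.finrank F E) (rv (Nat.card F : ℤ) M k c))) := by
  have := ctx.finF
  have := ctx.finK
  have hE : Nat.card E = Nat.card F ^ Module.finrank F E := Module.natCard_eq_pow_finrank
  by_cases h : 0 < k ∧ TorZ (Nat.card F : ℤ) M k c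
  swap
  · rw [rv, if_neg h, map_zero, map_zero, map_zero]
    exact Cmp.zero
  obtain ⟨hk, hT⟩ := h
  rw [rv, if_pos ⟨hk, hT⟩]
  have hT₀ := H623.GLn.torZ_canon hT
  have hc₀ : PReg M p (canon (Nat.card F : ℤ) M c) := by
    obtain ⟨j, hj⟩ := H623.GLn.canon_spec (Nat.card F : ℤ) c
    rw [hj]
    refine Nat.Coprime.coprime_dvd_left ?_ hc
    rw [addOrderOf_dvd_iff_nsmul_eq_zero, nsmul_eq_mul, mul_left_comm, ← nsmul_eq_mul, addOrderOf_nsmul_eq_zero,
      mul_zero]
  generalize canon (Nat.card F : ℤ) M c = c₀ at hT₀ hc₀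
  clear hc hT c
  intro V _ _ _ _ _ hV u k' hk' hu
  have hfin : Module.finrank F E * Module.finrank E V = Module.finrank F V := Module.finrank_mul_finrank F E V
  rw [piA_X', PhiF, MvPolynomial.aeval_X]
  simp only
  by_cases hdim : Module.finrank F V = k
  swap
  · rw [Rc, Rf, comp_fn, if_neg hdim]
    split_ifs with hdvd
    · rw [map_sum, H941.GLn.sum_fn]
      refine (Finset.sum_eq_zero fun j _ => ?_).symm
      refine piA_rv_fn_zero _ u ?_
      intro h1
      apply hdim
      rw [← hfin, h1, Nat.mul_div_cancel' hdvd]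
    · rw [map_zero]
      rfl
  have hdvd : Module.finrank F E ∣ k := by rw [← hdim, ← hfin]; exact dvd_mul_right _ _
  have hd : k / Module.finrank F E = Module.finrank E V := by
    rw [← hdim, ← hfin, Nat.mul_div_cancel_left _ Module.finrank_pos]
  have hd0 : 0 < Module.finrank E V := by
    rcases Nat.eq_zero_or_pos (Module.finrank E V) with h0 | h0
    · rw [h0, mul_zero] at hfin
      omega
    · exact h0
  have hctx : Ctx E θ (Module.finrank E V) M := ctx_ext ctx (by rw [hfin]; exact hV)
  have hqk : Nat.card E ^ Module.finrank E V = Nat.card F ^ k := by rw [hE, ← pow_mul, hfin, hdim]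
  rw [if_pos hdvd, hd, map_sum, H941.GLn.sum_fn, Rc, Rf, comp_fn, if_pos hdim, kapF_fn,
    kap_ext hz (theta_pow hz hdvd hT₀ hc₀) (fun h hm hdeg => hctx.spl h hm hdeg) hk' hu]
  refine Finset.sum_congr rfl fun i _ => ?_
  have hTE : TorZ (Nat.card E : ℤ) M (Module.finrank E V) ((Nat.card F : ZMod M) ^ i * c₀) := by
    refine H623.GLn.torZ_mul ?_ _
    unfold TorZ at hT₀ ⊢
    rw [Int.cast_natCast] at hT₀ ⊢
    rw [← Nat.cast_pow, hqk, Nat.cast_pow]
    exact hT₀
  have e1 : ((Nat.card F : ℤ) ^ Module.finrank F E) = (Nat.card E : ℤ) := by rw [hE]; push_cast; rfl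
  have e2 : piA (F := E) θ M (rv (Nat.card E : ℤ) M (Module.finrank E V) ((Nat.card F : ZMod M) ^ i * c₀)) =
      Rc θ M (Module.finrank E V) ((Nat.card F : ZMod M) ^ i * c₀) :=
    H623.GLn.piA_rv hctx hd0 le_rfl hTE
  have hq : 2 ≤ Nat.card F := Finite.one_lt_card
  have e3 : Rf (F := E) θ (Module.finrank E V)
      (expo (Nat.card E) M (Module.finrank E V) ((Nat.card F : ZMod M) ^ i * c₀)) =
      Rf θ (Module.finrank E V) (expo (Nat.card F) M k c₀ * Nat.card F ^ i) := by
    refine H623.GLn.Rf_congr hctx hd0 le_rfl (j := 0) ?_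
    rw [pow_zero, mul_one]
    have h6 : expo (Nat.card E) M (Module.finrank E V) ((Nat.card F : ZMod M) ^ i * c₀) =
        expo (Nat.card F) M k ((Nat.card F : ZMod M) ^ i * c₀) := by
      rw [expo, expo, hqk]
    rw [h6, hqk]
    exact (H623.GLn.expo_modEq hq hk hT₀ (H623.GLn.torZ_mul hT₀ _) i).2 rfl
  rw [e1, Int.cast_natCast, e2, Rc, e3, Rf, comp_fn, if_pos rfl, kapF_fn]

/-- **R6b: restriction of scalars and translation by a `p`-element generating the extension** -/
theorem ev_ext {p : ℕ} (hctx : Ctx F θ N M) (hp : p.Prime) (_hpF : p ≠ ringChar F)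
    {V : Type u} [AddCommGroup V] [Module F V] [Module E V]
    [IsScalarTower F E V] [Finite V] (hV : Module.finrank F V ≤ N)
    (z : E) (j : ℕ) (hz : z ^ p ^ j = 1) (hgen : Algebra.adjoin F ({z} : Set E) = ⊤)
    (u : V →ₗ[E] V) (k : ℕ) (hk : k.Coprime p) (hu : u ^ k = 1) {x : RS M}
    (hx : x ∈ Algebra.adjoin ℂ {x : RS M | ∃ (k : ℕ) (c : ZMod M), PReg M p c ∧ x = rv (Nat.card F : ℤ) M k c}) :
    (piA (F := F) θ M x).fn V ((z • u).restrictScalars F) =
      (piA (F := E) θ M (PhiF (Nat.card F : ℤ) M (Module.finrank F E) x)).fn V u := by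
  have hz' : Ext F p z := by
    refine ⟨?_, ⟨j, hz⟩, hgen⟩
    rintro rfl
    rw [zero_pow (pow_pos hp.pos j).ne'] at hz
    exact zero_ne_one hz
  have key : Cmp N p z (piA (F := F) θ M x)
      (piA (F := E) θ M (PhiF (Nat.card F : ℤ) M (Module.finrank F E) x)) := by
    induction hx using Algebra.adjoin_induction with
    | mem x hx =>
      obtain ⟨k, c, hc, rfl⟩ := hx
      exact cmp_gen hctx hz' k c hc
    | algebraMap r =>
      rw [AlgHom.commutes, AlgHom.commutes, AlgHom.commutes, Algebra.algebraMap_eq_smul_one,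
        Algebra.algebraMap_eq_smul_one]
      exact Cmp.smul r Cmp.one
    | add x y _ _ hx hy =>
      rw [map_add, map_add, map_add]
      exact hx.add hy
    | mul x y _ _ hx hy =>
      rw [map_mul, map_mul, map_mul]
      exact Cmp.mul hz' hx hy
  exact key V hV u k hk hu

end main

end Cfsg.Agent.H111.GLExt
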