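import Cfsg.Agent.H577.GLB.Real
import Cfsg.Agent.H623.GLn.Real
import Cfsg.Agent.H139.Cusp.Formula

/-!
# S4536 (R6b), part 1: the characteristic polynomial of `z u` over the small field (helper111)

`E / F` finite fields, `z ∈ E`, `u` an `E`-linear map: if `θ(z)^a = 1` the sum of the `θ(y)^a` over the nonzero
roots `y` of the characteristic polynomial over `F` of `z u` is the sum over `i < [E : F]` of the sums of the
`θ(x)^(a q^i)` over the nonzero roots `x` of the characteristic polynomial over `E` of `u`.
-/

set_option autoImplicit false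

open Polynomial
open Cfsg.Agent.H614.GLn
open Cfsg.Agent.H139.Cusp

namespace Cfsg.Agent.H111.GLExt

universe u v w

/-! ### sums over periods -/

theorem per_mul {d : ℕ} {g : ℕ → ℂ} (hg : ∀ i, g (i + d) = g i) (m i : ℕ) : g (d * m + i) = g i := by
  induction m with
  | zero => rw [Nat.mul_zero, Nat.zero_add]
  | succ m ih => rw [Nat.mul_succ, add_right_comm, hg, ih]

theorem sum_period {d : ℕ} {g : ℕ → ℂ} (hg : ∀ i, g (i + d) = g i) (m : ℕ) :
    ∑ i ∈ Finset.range (d * m), g i = m * ∑ i ∈ Finset.range d, g i := by
  induction m with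
  | zero => simp
  | succ m ih =>
    rw [Nat.mul_succ, Finset.sum_range_add, ih, Nat.cast_succ, add_mul, one_mul]
    congr 1
    exact Finset.sum_congr rfl fun i _ => per_mul hg m i

theorem sum_double (f d : ℕ) (g : ℕ → ℂ) :
    ∑ i ∈ Finset.range f, ∑ j ∈ Finset.range d, g (i + f * j) = ∑ t ∈ Finset.range (f * d), g t := by
  induction d with
  | zero => simp
  | succ d ih =>
    rw [Nat.mul_succ, Finset.sum_range_add, ← ih, ← Finset.sum_add_distrib]
    refine Finset.sum_congr rfl fun i _ => ?_
    rw [Finset.sum_range_succ, add_comm i (f * d)]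

/-! ### restriction of scalars -/

section scal

variable {F : Type u} [Field F] {E : Type u} [Field E] [Algebra F E]
variable {V : Type v} [AddCommGroup V] [Module F V] [Module E V] [IsScalarTower F E V]

theorem pow_restrictScalars (S : V →ₗ[E] V) (n : ℕ) (v : V) : (S.restrictScalars F ^ n) v = (S ^ n) v := by
  rw [Module.End.pow_apply, Module.End.pow_apply]
  rfl

theorem aeval_restrictScalars (S : V →ₗ[E] V) (g : F[X]) (v : V) :
    aeval (S.restrictScalars F) g v = aeval S (g.map (algebraMap F E)) v := by
  induction g using Polynomial.induction_on' with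
  | add p q hp hq =>
    rw [Polynomial.map_add, map_add, map_add, LinearMap.add_apply, LinearMap.add_apply, hp, hq]
  | monomial n a =>
    rw [Polynomial.map_monomial, aeval_monomial, aeval_monomial, Module.End.mul_apply, Module.End.mul_apply,
      Module.algebraMap_end_apply, Module.algebraMap_end_apply, pow_restrictScalars, algebraMap_smul]

/-- a subspace as a subspace over the small field -/
def subE (F : Type u) [Field F] {E : Type u} [Field E] [Algebra F E] {V : Type v} [AddCommGroup V] [Module F V]
    [Module E V] [IsScalarTower F E V] (W : Submodule E V) : (W.restrictScalars F) ≃ₗ[F] W where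
  toFun x := ⟨x.1, x.2⟩
  invFun x := ⟨x.1, x.2⟩
  map_add' _ _ := rfl
  map_smul' _ _ := rfl
  left_inv _ := rfl
  right_inv _ := rfl

/-- the quotient over the small field -/
noncomputable def quoE (F : Type u) [Field F] {E : Type u} [Field E] [Algebra F E] {V : Type v} [AddCommGroup V]
    [Module F V] [Module E V] [IsScalarTower F E V] (W : Submodule E V) :
    (V ⧸ W.restrictScalars F) ≃ₗ[F] (V ⧸ W) := Submodule.Quotient.restrictScalarsEquiv F W

theorem stable_of {z : E} {u : V →ₗ[E] V} {W : Submodule E V} (h : W ≤ W.comap u) :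
    W.restrictScalars F ≤ (W.restrictScalars F).comap ((z • u).restrictScalars F) := fun _ hx =>
  W.smul_mem z (h hx)

theorem sub_comm {z : E} {u : V →ₗ[E] V} {W : Submodule E V} (h : W ≤ W.comap u)
    (h' : W.restrictScalars F ≤ (W.restrictScalars F).comap ((z • u).restrictScalars F)) (x : W.restrictScalars F) :
    ((z • u.restrict h).restrictScalars F) (subE F W x) =
      subE F W (((z • u).restrictScalars F).restrict h' x) := rfl

theorem quo_comm {z : E} {u : V →ₗ[E] V} {W : Submodule E V} (h : W ≤ W.comap u)
    (h' : W.restrictScalars F ≤ (W.restrictScalars F).comap ((z • u).restrictScalars F))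
    (x : V ⧸ W.restrictScalars F) :
    ((z • W.mapQ W u h).restrictScalars F) (quoE F W x) =
      quoE F W ((W.restrictScalars F).mapQ (W.restrictScalars F) ((z • u).restrictScalars F) h' x) := by
  obtain ⟨v, rfl⟩ := (W.restrictScalars F).mkQ_surjective x
  rfl

end scal

/-! ### characteristic polynomials -/

theorem charpoly_pow {F : Type u} [Field F] [Finite F] {V : Type v} [AddCommGroup V] [Module F V] [Finite V]
    {f : F[X]} (hf : f.Monic) (hirr : Irreducible f) {g : V →ₗ[F] V} (h0 : aeval g f = 0) :
    ∃ m, g.charpoly = f ^ m ∧ Module.finrank F V = f.natDegree * m := by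
  have : Fact (Irreducible f) := ⟨hirr⟩
  obtain ⟨hm, hst, hg⟩ := exists_module h0
  have h1 : g.charpoly = f ^ Module.finrank (AdjoinRoot f) V := by
    rw [← hg]; exact charpoly_rsm f hf _ V rfl
  refine ⟨_, h1, ?_⟩
  rw [← LinearMap.charpoly_natDegree g, h1, hf.natDegree_pow, mul_comm]

section lba

variable {F : Type u} [Field F] {K : Type w} [Field K] [Algebra F K] {θ : K →*₀ ℂ}

theorem lba_one (a : ℕ) : lba (F := F) θ a 1 = 0 := by
  rw [lba, Polynomial.map_one, roots_one]
  simp

theorem lba_pow (a : ℕ) {f : F[X]} (hf : f.Monic) (m : ℕ) : lba θ a (f ^ m) = m * lba θ a f := by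
  induction m with
  | zero => rw [pow_zero, lba_one, Nat.cast_zero, zero_mul]
  | succ m ih => rw [pow_succ, lba_add θ a _ _ (hf.pow m) hf, ih, Nat.cast_succ, add_mul, one_mul]

end lba

section main

variable {F : Type u} [Field F] [Finite F] {E : Type u} [Field E] [Finite E] [Algebra F E]
variable {K : Type w} [Field K] [Finite K] [Algebra F K] [Algebra E K] [IsScalarTower F E K] {θ : K →*₀ ℂ}

theorem lba_base {V : Type v} [AddCommGroup V] [Module F V] [Module E V] [IsScalarTower F E V] [Finite V]
    {z : E} (hz0 : z ≠ 0) {a : ℕ} (hz : θ (algebraMap E K z) ^ a = 1) {u : V →ₗ[E] V} {l : K}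
    (h0 : aeval u (minpoly E l) = 0) :
    lba θ a ((z • u).restrictScalars F).charpoly =
      ∑ i ∈ Finset.range (Module.finrank F E), lba θ (a * Nat.card F ^ i) u.charpoly := by
  classical
  have hzK : algebraMap E K z ≠ 0 := by
    rw [Ne, map_eq_zero]; exact hz0
  have hintE : IsIntegral E l := integral_of_finite l
  have hintF : IsIntegral F (algebraMap E K z * l) := integral_of_finite _
  have hg : aeval ((z • u).restrictScalars F) (minpoly F (algebraMap E K z * l)) = 0 := by
    apply LinearMap.ext
    intro v
    rw [aeval_restrictScalars]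
    have h1 : aeval (z • u) ((minpoly F (algebraMap E K z * l)).map (algebraMap F E)) =
        aeval u (((minpoly F (algebraMap E K z * l)).map (algebraMap F E)).comp (C z * X)) := by
      rw [aeval_comp, map_mul, aeval_C, aeval_X]
      rfl
    have h2 : minpoly E l ∣ ((minpoly F (algebraMap E K z * l)).map (algebraMap F E)).comp (C z * X) := by
      apply minpoly.dvd
      rw [aeval_comp, map_mul, aeval_C, aeval_X, aeval_map_algebraMap, minpoly.aeval]
    obtain ⟨c, hc⟩ := h2
    rw [h1, hc, map_mul, h0, zero_mul, LinearMap.zero_apply, LinearMap.zero_apply]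
  obtain ⟨m, hm, hm'⟩ := charpoly_pow (minpoly.monic hintF) (minpoly.irreducible hintF) hg
  obtain ⟨n, hn, hn'⟩ := charpoly_pow (minpoly.monic hintE) (minpoly.irreducible hintE) h0
  rw [hm, hn, lba_pow a (minpoly.monic hintF)]
  have eE : ∀ i, lba θ (a * Nat.card F ^ i) (minpoly E l ^ n) = n * (if l = 0 then 0 else
      ∑ j ∈ Finset.range (minpoly E l).natDegree, (θ l ^ (a * Nat.card F ^ i)) ^ (Nat.card E ^ j)) := fun i => by
    rw [lba_pow _ (minpoly.monic hintE), H623.GLn.lba_minpoly]
  have eF : lba θ a (minpoly F (algebraMap E K z * l)) = if l = 0 then 0 else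
      ∑ i ∈ Finset.range (minpoly F (algebraMap E K z * l)).natDegree,
        (θ (algebraMap E K z * l) ^ a) ^ (Nat.card F ^ i) := by
    rw [H623.GLn.lba_minpoly]
    by_cases hl : l = 0
    · rw [if_pos hl, if_pos (by rw [hl, mul_zero])]
    · rw [if_neg hl, if_neg (mul_ne_zero hzK hl)]
  rw [eF]
  simp only [eE]
  by_cases hl : l = 0
  · simp only [if_pos hl, mul_zero, Finset.sum_const_zero]
  · simp only [if_neg hl]
    rw [← Finset.mul_sum]
    have hE : Nat.card E = Nat.card F ^ Module.finrank F E := Module.natCard_eq_pow_finrank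
    have e1 : θ (algebraMap E K z * l) ^ a = θ l ^ a := by rw [map_mul, mul_pow, hz, one_mul]
    have e2 : ∀ i j : ℕ, (θ l ^ (a * Nat.card F ^ i)) ^ (Nat.card E ^ j) =
        (θ l ^ a) ^ (Nat.card F ^ (i + Module.finrank F E * j)) := by
      intro i j
      rw [hE, ← pow_mul, ← pow_mul, ← pow_mul, pow_add, pow_mul (Nat.card F), mul_assoc]
    have e3 : ∑ i ∈ Finset.range (Module.finrank F E), ∑ j ∈ Finset.range (minpoly E l).natDegree,
        (θ l ^ (a * Nat.card F ^ i)) ^ (Nat.card E ^ j) =
        ∑ t ∈ Finset.range (Module.finrank F E * (minpoly E l).natDegree), (θ l ^ a) ^ (Nat.card F ^ t) := by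
      rw [← sum_double (Module.finrank F E) (minpoly E l).natDegree fun t => (θ l ^ a) ^ (Nat.card F ^ t)]
      exact Finset.sum_congr rfl fun i _ => Finset.sum_congr rfl fun j _ => e2 i j
    rw [e3, e1]
    have p1 : ∀ i, (θ l ^ a) ^ (Nat.card F ^ (i + (minpoly F (algebraMap E K z * l)).natDegree)) =
        (θ l ^ a) ^ (Nat.card F ^ i) := by
      intro i
      have h3 : (algebraMap E K z * l) ^ (Nat.card F ^ (minpoly F (algebraMap E K z * l)).natDegree) =
          algebraMap E K z * l := (pow_eq_self_iff (F := F) _ _).2 dvd_rfl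
      rw [← e1, add_comm, pow_add, pow_mul, ← map_pow, ← map_pow, ← pow_mul, mul_comm a, pow_mul, h3]
    have p2 : ∀ i, (θ l ^ a) ^ (Nat.card F ^ (i + Module.finrank F E * (minpoly E l).natDegree)) =
        (θ l ^ a) ^ (Nat.card F ^ i) := by
      intro i
      have h3 : l ^ (Nat.card E ^ (minpoly E l).natDegree) = l := (pow_eq_self_iff (F := E) l _).2 dvd_rfl
      rw [hE, ← pow_mul] at h3
      rw [add_comm, pow_add, pow_mul, ← map_pow, ← map_pow, ← pow_mul, mul_comm a, pow_mul, h3]
    rw [← sum_period p1 m, ← sum_period p2 n]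
    congr 2
    rw [← hm', mul_assoc, ← hn', Module.finrank_mul_finrank]

/-- **the characteristic polynomial of `z u` over the small field** -/
theorem lba_ext {z : E} (hz0 : z ≠ 0) {a : ℕ} (hz : θ (algebraMap E K z) ^ a = 1) (n : ℕ) :
    ∀ (V : Type v) [AddCommGroup V] [Module F V] [Module E V] [IsScalarTower F E V] [Finite V]
      (_ : Module.finrank E V = n)
      (_ : ∀ h : E[X], h.Monic → h.natDegree ≤ n → (h.map (algebraMap E K)).Splits) (u : V →ₗ[E] V),
    lba θ a ((z • u).restrictScalars F).charpoly =
      ∑ i ∈ Finset.range (Module.finrank F E), lba θ (a * Nat.card F ^ i) u.charpoly := by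
  induction n using Nat.strong_induction_on with
  | _ n ih =>
    intro V _ _ _ _ _ hV hs u
    rcases subsingleton_or_nontrivial V with hsub | hnt
    · have h1 : ∀ g : V →ₗ[F] V, g.charpoly = 1 := fun g => by
        refine eq_one_of_monic_natDegree_zero (LinearMap.charpoly_monic _) ?_
        rw [LinearMap.charpoly_natDegree]
        exact Module.finrank_zero_of_subsingleton
      have h2 : ∀ g : V →ₗ[E] V, g.charpoly = 1 := fun g => by
        refine eq_one_of_monic_natDegree_zero (LinearMap.charpoly_monic _) ?_
        rw [LinearMap.charpoly_natDegree]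
        exact Module.finrank_zero_of_subsingleton
      rw [h1, h2, lba_one]
      exact (Finset.sum_eq_zero fun i _ => lba_one _).symm
    have hnu : ¬ IsUnit u.charpoly := by
      intro h
      have h1 := (LinearMap.charpoly_monic u).eq_one_of_isUnit h
      have h2 := LinearMap.charpoly_natDegree u
      rw [h1, natDegree_one] at h2
      exact (Module.finrank_pos (R := E) (M := V)).ne h2
    obtain ⟨h, hm, hirr, hd⟩ := exists_monic_irreducible_factor _ hnu
    have hdeg : h.natDegree ≤ n := by
      rw [← hV, ← LinearMap.charpoly_natDegree u]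
      exact natDegree_le_of_dvd hd (LinearMap.charpoly_monic u).ne_zero
    obtain ⟨l, hl⟩ := H623.GLn.exists_root (K := K) hm hirr (hs h hm hdeg)
    set W := LinearMap.ker (aeval u h) with hWdef
    have hW : W ≤ W.comap u := ker_aeval_inv u h
    have hW0 : W ≠ ⊥ := ker_aeval_ne_bot hirr hd
    have h0 := stable_of (F := F) (z := z) hW
    have : Finite (V ⧸ W) := finite_quot W
    have : Finite (V ⧸ W.restrictScalars F) := finite_quot _
    have c1 := charpoly_eq_mul W u hW
    have c2 := charpoly_eq_mul (W.restrictScalars F) ((z • u).restrictScalars F) h0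
    have c3 := charpoly_conj_eq (subE F W) (sub_comm hW h0)
    have c4 := charpoly_conj_eq (quoE F W) (quo_comm hW h0)
    have hWu : aeval (u.restrict hW : W →ₗ[E] W) (minpoly E l) = 0 := by
      apply LinearMap.ext
      intro x
      apply Subtype.ext
      rw [aeval_restrict hW, ← hl]
      exact x.2
    have hdim : Module.finrank E (V ⧸ W) < n := by
      have h3 := Submodule.finrank_quotient_add_finrank W
      have h4 : 0 < Module.finrank E W := by
        rw [Module.finrank_pos_iff]
        exact Submodule.nontrivial_iff_ne_bot.2 hW0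
      omega
    have b1 := lba_base (F := F) (θ := θ) hz0 hz (u := (u.restrict hW : W →ₗ[E] W)) hWu
    have b2 := ih _ hdim (V ⧸ W) rfl (fun g hg hg' => hs g hg (hg'.trans hdim.le)) (W.mapQ W u hW)
    rw [c2, lba_add θ a _ _ (LinearMap.charpoly_monic _) (LinearMap.charpoly_monic _), ← c3, ← c4, b1, b2,
      ← Finset.sum_add_distrib]
    refine Finset.sum_congr rfl fun i _ => ?_
    rw [c1, lba_add θ _ _ _ (LinearMap.charpoly_monic _) (LinearMap.charpoly_monic _)]

end main

end Cfsg.Agent.H111.GLExt
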